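import Cfsg.Agent.Lib.Spor.Fi24Out.Rep

/-!
The outer automorphisms of a group like Fi24': generators `a` (order seventeen, self-centralising),
`b` (order sixteen, normalising it), an involution `e` commuting with `b`, and an element `g` which,
with its inverse, is all that centralises a set `S` inside the subgroup generated by `a`, `b`, `e`.
-/

set_option autoImplicit false

namespace CfsgLib.Spor.Fi24Out

open Cfsg

variable {G : Type*} [Group G]

theorem three_sub_one_ne : ((3 : ℕ) : ZMod 17) - 1 ≠ 0 := by decide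

/-- the hypotheses on the generators -/
structure Hyp (a b e g : G) (S : Set G) : Prop where
  gen : Subgroup.closure ({a, b, e, g} : Set G) = ⊤
  sq : ¬ 17 ^ 2 ∣ Nat.card G
  ha : orderOf a = 17
  hba : b * a * b⁻¹ = a ^ 3
  hCa : ∀ x : G, x * a = a * x → ∃ t : ℕ, x = a ^ t
  hb : orderOf b = 16
  he : e * e = 1
  heb : b * e = e * b
  hCb : ∀ x : G, x * b = b * x → ∃ i : ℕ, i < 16 ∧ (x = b ^ i ∨ x = e * b ^ i)
  hne : ∀ i : ℕ, i < 16 → e ≠ b ^ i
  rele : (a * e) ^ 10 = 1
  refe : (a * (e * b ^ 8)) ^ 10 ≠ 1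
  hS : S ⊆ Subgroup.closure ({a, b, e} : Set G)
  hg : g ≠ 1
  hSg : ∀ s ∈ S, g * s = s * g
  hCS : ∀ x : G, (∀ s ∈ S, x * s = s * x) → x = 1 ∨ x = g ∨ x = g⁻¹

variable {a b e g : G} {S : Set G}

theorem Hyp.ext (h : Hyp a b e g S) {φ ψ : MulAut G} (ha : φ a = ψ a) (hb : φ b = ψ b)
    (he : φ e = ψ e) (hg : φ g = ψ g) : φ = ψ := by
  have := MonoidHom.eq_of_eqOn_dense h.gen (f := φ.toMonoidHom) (g := ψ.toMonoidHom) (by
    rintro x (rfl | rfl | rfl | rfl) <;> assumption)
  exact MulEquiv.toMonoidHom_injective this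

theorem Hyp.image_e (h : Hyp a b e g S) {φ : MulAut G} (fa : φ a = a) (fb : φ b = b) :
    φ e = e := by
  have h1 : φ e * b = b * φ e := by rw [← fb, ← map_mul, ← map_mul, h.heb]
  obtain ⟨i, hi, hu | hu⟩ := h.hCb _ h1
  · refine absurd (φ.injective (hu.trans ?_)) (h.hne i hi)
    rw [map_pow, fb]
  · have h2 : φ e * φ e = 1 := by rw [← map_mul, h.he, map_one]
    rw [hu, (((show Commute e b from h.heb.symm).pow_right i).symm).mul_mul_mul_comm, h.he, one_mul,
      ← pow_add] at h2
    have h16 : 16 ∣ i + i := h.hb ▸ orderOf_dvd_iff_pow_eq_one.2 h2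
    rcases (by omega : i = 0 ∨ i = 8) with rfl | rfl
    · rw [hu, pow_zero, mul_one]
    · have r := congrArg φ h.rele
      rw [map_pow, map_mul, map_one, fa, hu] at r
      exact absurd r h.refe

theorem Hyp.image_g (h : Hyp a b e g S) {φ : MulAut G} (fa : φ a = a) (fb : φ b = b) :
    φ g = g ∨ φ g = g⁻¹ := by
  have hfix : Subgroup.closure ({a, b, e} : Set G) ≤
      (φ.toMonoidHom).eqLocus (MonoidHom.id G) := by
    rw [Subgroup.closure_le]
    rintro x (rfl | rfl | rfl)
    exacts [fa, fb, h.image_e fa fb]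
  rcases h.hCS (φ g) (fun s hs => by
      have e' : φ s = s := hfix (h.hS hs)
      rw [← e', ← map_mul, ← map_mul, h.hSg s hs]) with h1 | h1 | h1
  · exact absurd ((map_eq_one_iff _ φ.injective).1 h1) h.hg
  · exact Or.inl h1
  · exact Or.inr h1

theorem Hyp.natCard_out [Finite G] (h : Hyp a b e g S) (τ : MulAut G) (τa : τ a = a) (τb : τ b = b)
    (τe : τ e = e) (τg : τ g = g⁻¹) (hτ : τ ∉ Inn G) : Nat.card (Out G) = 2 := by
  haveI : Fact (Nat.Prime 17) := ⟨by norm_num⟩
  have rep := exists_rep h.sq h.ha h.hba three_sub_one_ne [1]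
    (by decide) h.hCa
  have all : ∀ o : Out G, o = 1 ∨ o = QuotientGroup.mk τ := by
    intro o
    obtain ⟨φ, rfl, fb, r, hr, fa⟩ := rep o
    obtain rfl : r = 1 := by simpa using hr
    rw [pow_one] at fa
    have fe := h.image_e fa fb
    rcases h.image_g fa fb with fg | fg
    · left; rw [show φ = 1 from h.ext fa fb fe fg, QuotientGroup.mk_one]
    · right
      rw [show φ = τ from h.ext (fa.trans τa.symm) (fb.trans τb.symm) (fe.trans τe.symm)
        (fg.trans τg.symm)]
  rw [Nat.card_eq_two_iff' (1 : Out G)]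
  exact ⟨_, fun e' => hτ ((QuotientGroup.eq_one_iff τ).1 e'), fun o ho => (all o).resolve_left ho⟩

end CfsgLib.Spor.Fi24Out
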