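import Cfsg.Agent.Lib.Spor.Fi24Out.ChkA1

/-!
Certificate for the points fixed by an element of Fi24.
-/

set_option autoImplicit false
set_option Elab.async false

namespace CfsgLib.Spor.Fi24Out

open CfsgLib.BitPerm CfsgLib.Spor.Fi24

theorem fixA2_ok : movedIs aWord movedA1 [15, 3, 10, 8, 17] (Nat.sub pointsMask 1) = true := by
  decide +kernel

end CfsgLib.Spor.Fi24Out
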