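import Cfsg.Agent.Lib.Spor.Fi24Out.FixDefs

/-!
Certificate for the points fixed by an element of Fi24.
-/

set_option autoImplicit false
set_option Elab.async false

namespace CfsgLib.Spor.Fi24Out

open CfsgLib.BitPerm CfsgLib.Spor.Fi24

theorem fixK_ok : Nat.beq (Nat.land (sepOr kLetters [0, 3, 4]) pointsMask)
    (Nat.sub pointsMask (Nat.add 1 (Nat.shiftLeft 3 31672))) = true := by
  decide +kernel

end CfsgLib.Spor.Fi24Out
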