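import Cfsg.Agent.Lib.Spor.Fi24Out.ChkA2
import Cfsg.Agent.Lib.Spor.Fi24Out.ChkB3
import Cfsg.Agent.Lib.Spor.Fi24Out.ChkK
import Cfsg.Agent.Lib.Spor.Fi24.ChkNets

/-!
The meaning of the tests on the planes.
-/

set_option autoImplicit false

namespace CfsgLib.Spor.Fi24Out

open CfsgLib.BitPerm CfsgLib.Spor.Fi24

attribute [local irreducible] sys

theorem mask_bit (i : ℕ) : pointsMask.testBit i = decide (i < 306936) := by
  show ((1 <<< 306936) - 1 : ℕ).testBit i = _
  rw [Nat.one_shiftLeft, Nat.testBit_two_pow_sub_one]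

theorem movedOr_bit {w : List ℕ} {i : ℕ} (hw : sys.ptW w i = i) {M : ℕ} (hM : M.testBit i = false) :
    ∀ js : List ℕ, (movedOr w M js).testBit i = false
  | [] => hM
  | j :: js => by
    rw [movedOr, force_eq, force_eq, force_eq]
    show (movedOr w M js ||| (sys.actW w (plane j 19) ^^^ plane j 19)).testBit i = false
    rw [Nat.testBit_lor, movedOr_bit hw hM js, Nat.testBit_xor, Sys.testBit_actW okNets, hw]
    simp

theorem movedIs_bit {w : List ℕ} {M R : ℕ} {js : List ℕ} (h : movedIs w M js R = true) {i : ℕ}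
    (hw : sys.ptW w i = i) (hM : M.testBit i = false) : R.testBit i = false := by
  rw [movedIs, Nat.beq_eq] at h
  rw [← h]
  show (movedOr w M js &&& pointsMask).testBit i = false
  rw [Nat.testBit_land, movedOr_bit hw hM js, Bool.false_and]

theorem sub_testBit {s : ℕ} {i : ℕ} (hi : i < 306936) (hs : s < 2 ^ 306936)
    (h : (Nat.sub pointsMask s).testBit i = false) : s.testBit i = true := by
  rw [show Nat.sub pointsMask s = 2 ^ 306936 - (s + 1) by
      show (1 <<< 306936) - 1 - s = _
      rw [Nat.one_shiftLeft, Nat.sub_sub, add_comm],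
    Nat.testBit_two_pow_sub_succ hs, decide_eq_true hi, Bool.true_and] at h
  simpa using h

theorem aFix {i : ℕ} (hi : i < 306936) (hw : sys.ptW aWord i = i) : i = 0 := by
  have h := movedIs_bit fixA2_ok hw
    (movedIs_bit fixA1_ok hw (movedIs_bit fixA0_ok hw (Nat.zero_testBit i)))
  have h1 := sub_testBit hi (Nat.one_lt_two_pow (by norm_num)) h
  exact Nat.testBit_one_eq_true_iff_self_eq_zero.1 h1

theorem bFix {i : ℕ} (hi : i < 306936) (hw : sys.ptW bWord i = i) : i = 0 ∨ i = 18595 := by
  have h := movedIs_bit fixB3_ok hw (movedIs_bit fixB2_ok hw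
    (movedIs_bit fixB1_ok hw (movedIs_bit fixB0_ok hw (Nat.zero_testBit i))))
  have h1 := sub_testBit hi ?_ h
  · by_contra hne
    push Not at hne
    have : (2 ^ 0 ||| 2 ^ 18595 : ℕ).testBit i = false := by
      rw [Nat.testBit_lor, Nat.testBit_two_pow_of_ne (Ne.symm hne.1),
        Nat.testBit_two_pow_of_ne (Ne.symm hne.2)]
      rfl
    rw [show (Nat.add 1 (Nat.shiftLeft 1 18595)) = 2 ^ 0 ||| 2 ^ 18595 by decide +kernel, this] at h1
    exact absurd h1 (by simp)
  · decide +kernel

theorem sepOr_bit {xs : List ℕ} {i : ℕ} (hw : ∀ x ∈ xs, sys.pt x i = sys.pt 3 i) :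
    ∀ js : List ℕ, (sepOr xs js).testBit i = false
  | [] => Nat.zero_testBit i
  | j :: js => by
    rw [sepOr, force_eq, force_eq, force_eq]
    have key : ∀ (l : List ℕ) (A : ℕ), (∀ x ∈ l, sys.pt x i = sys.pt 3 i) → A.testBit i = false →
        (l.foldl (fun C x => force (Nat.xor (sys.act x (plane j 19)) (sys.act 3 (plane j 19)))
          fun D => Nat.lor C D) A).testBit i = false := by
      intro l
      induction l with
      | nil => exact fun A _ h => h
      | cons x l ih =>
        intro A hl hA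
        refine ih _ (fun y hy => hl y (List.mem_cons_of_mem _ hy)) ?_
        simp only [force_eq]
        show (A ||| (sys.act x (plane j 19) ^^^ sys.act 3 (plane j 19))).testBit i = false
        rw [Nat.testBit_lor, hA, Nat.testBit_xor, Sys.testBit_act okNets, Sys.testBit_act okNets,
          hl x (List.mem_cons_self ..)]
        simp
    exact key xs _ hw (sepOr_bit hw js)

theorem kFix {i : ℕ} (hi : i < 306936) (hw : ∀ x ∈ kLetters, sys.pt x i = sys.pt 3 i) :
    i = 0 ∨ i = 31672 ∨ i = 31673 := by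
  have h : (Nat.sub pointsMask (Nat.add 1 (Nat.shiftLeft 3 31672))).testBit i = false := by
    rw [← Nat.eq_of_beq_eq_true fixK_ok]
    show (sepOr kLetters [0, 3, 4] &&& pointsMask).testBit i = false
    rw [Nat.testBit_land, sepOr_bit hw, Bool.false_and]
  have h1 := sub_testBit hi ?_ h
  · by_contra hne
    push Not at hne
    rw [show (Nat.add 1 (Nat.shiftLeft 3 31672)) = 2 ^ 0 ||| (2 ^ 31672 ||| 2 ^ 31673) by decide +kernel,
      Nat.testBit_lor, Nat.testBit_lor, Nat.testBit_two_pow_of_ne (Ne.symm hne.1),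
      Nat.testBit_two_pow_of_ne (Ne.symm hne.2.1), Nat.testBit_two_pow_of_ne (Ne.symm hne.2.2)] at h1
    exact absurd h1 (by simp)
  · decide +kernel

end CfsgLib.Spor.Fi24Out
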