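import Cfsg.Agent.Lib.Spor.Fi24Out.Base
import Cfsg.Agent.Lib.Spor.Fi24Out.Fix
import Cfsg.Agent.Lib.Spor.Fi23Norm.Extras

/-!
The elements of Fi24 coming from Fi23 and the centralisers of two of them in the derived group.
-/

set_option autoImplicit false

namespace CfsgLib.Spor.Fi24Out

open CfsgLib.PresCert Cfsg.Spor CfsgLib.Spor.FischerTypes CfsgLib.Spor.Fi23Norm
open CfsgLib.Spor.Fi24 (π π_gen π_word idx gen gen_sq H hGens sys i₀)

local notation "𝔽" => Cfsg.Spor.Fi24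
local notation "𝕊" => Cfsg.Spor.Fi23

attribute [local irreducible] sys

/-- the value of a word of Fi23 carried to Fi24 -/
theorem σ_wEl : ∀ (w : List ℕ), (∀ k ∈ w, k < 10) →
    (σ (wEl w) : 𝔽) =
      (((w.reverse.map Fi23.Auto.ofIdx).map up ++ List.replicate (w.length % 2) Fi24.Gen.l).map gen).prod
  | [], _ => by simp [wEl]
  | k :: w, h => by
    have hk := h k (List.mem_cons_self ..)
    have ih := σ_wEl w fun j hj => h j (List.mem_cons_of_mem _ hj)
    rw [wEl, map_mul, Subgroup.coe_mul, ih, letEl, if_pos hk, σ_gen]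
    have hcomm : gen .l * gen (up (Fi23.Auto.ofIdx k)) = gen (up (Fi23.Auto.ofIdx k)) * gen .l :=
      (comm_l (up_mem _)).symm
    rcases Nat.mod_two_eq_zero_or_one w.length with hp | hp
    · rw [hp, List.length_cons, show (w.length + 1) % 2 = 1 by omega]
      simp
    · rw [hp, List.length_cons, show (w.length + 1) % 2 = 0 by omega]
      simp only [List.replicate_one, List.replicate_zero, List.append_nil, List.reverse_cons,
        List.map_append, List.map_cons, List.map_nil, List.prod_append, List.prod_singleton, mul_assoc]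
      rw [← mul_assoc (gen .l), hcomm, mul_assoc, gen_sq, mul_one]

/-- the walk of a word of Fi23 in Fi24 -/
def walk (w : List ℕ) : List ℕ :=
  List.replicate (w.length % 2) 0 ++ w.map fun k => idx (up (Fi23.Auto.ofIdx k))

theorem π_σ_wEl (w : List ℕ) (h : ∀ k ∈ w, k < 10) (i : Fin 306936) :
    ((π (σ (wEl w) : 𝔽) i : Fin _) : ℕ) = sys.ptW (walk w) i := by
  rw [σ_wEl w h, π_word, List.map_append, List.reverse_append, List.map_replicate,
    List.reverse_replicate, List.map_map, List.map_map, List.map_reverse, List.reverse_reverse]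
  rfl

theorem up_idx : ∀ x : Fi23.Gen, idx (up x) = Fi23.idx x + 2 := by intro x; cases x <;> rfl

theorem walk_A : walk AW = aWord := by decide +kernel

theorem walk_B : (List.replicate (BW0.length % 2) 0 ++ BW0.map fun k => idx (up (Fi23.Auto.ofIdx k))) =
    0 :: bWord.dropLast ∧ bWord = bWord.dropLast ++ [0] := by decide +kernel

/-- the element of order seventeen -/
noncomputable def eA : G := σ fA

/-- the element of order sixteen -/
noncomputable def eB : G := σ fB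

/-- the involution -/
noncomputable def eE : G := σ fE

theorem fixA {p : Fin 306936} (h : π (eA : 𝔽) p = p) : p = i₀ := by
  refine Fin.ext (aFix p.2 ?_)
  have e := congrArg Fin.val h
  rwa [eA, fA, π_σ_wEl _ words_ok.2.1, walk_A] at e

theorem fixB0 {p : Fin 306936} (h : π (σ fB0 : 𝔽) p = p) : (p : ℕ) = 0 ∨ (p : ℕ) = 18595 := by
  refine bFix p.2 ?_
  have e1 : (σ fB0 : 𝔽) = gen .l *
      ((BW0.reverse.map fun k => up (Fi23.Auto.ofIdx k)).map gen).prod := by
    rw [fB0, σ_wEl _ words_ok.1, show BW0.length % 2 = 1 from rfl]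
    simp only [List.replicate_one, List.map_append, List.map_cons, List.map_nil, List.prod_append,
      List.prod_singleton, List.map_map]
    have hmem : ((BW0.reverse.map ((fun x => gen x) ∘ up ∘ Fi23.Auto.ofIdx)).prod : 𝔽) ∈ H := by
      refine list_prod_mem fun q hq => ?_
      obtain ⟨k, -, rfl⟩ := List.mem_map.1 hq
      exact Subgroup.subset_closure ⟨_, up_mem _, rfl⟩
    exact H_comm _ hmem
  have e := congrArg Fin.val h
  rw [e1, ← List.prod_cons, ← List.map_cons, π_word, List.map_cons, List.reverse_cons,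
    List.map_map, List.map_reverse, List.reverse_reverse] at e
  have e2 : BW0.map (idx ∘ fun k => up (Fi23.Auto.ofIdx k)) ++ [idx .l] = bWord := by decide +kernel
  rwa [e2] at e

theorem fixB_two : ∃ P : Fin 306936, ∀ p, π (eB : 𝔽) p = p → p = i₀ ∨ p = P := by
  refine ⟨π (σ fH : 𝔽) ⟨18595, by norm_num⟩, fun p hp => ?_⟩
  have hp5 : π (σ (fB ^ 5) : 𝔽) p = p := by
    rw [map_pow, SubgroupClass.coe_pow, map_pow]
    exact Function.IsFixedPt.perm_pow hp 5
  rw [← fB0_conj, map_mul, map_mul, map_inv, Subgroup.coe_mul, Subgroup.coe_mul, Subgroup.coe_inv,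
    map_mul, map_mul, map_inv, Equiv.Perm.mul_apply, Equiv.Perm.mul_apply] at hp5
  have h0 : π (σ fB0 : 𝔽) ((π (σ fH : 𝔽))⁻¹ p) = (π (σ fH : 𝔽))⁻¹ p := by
    conv_rhs => rw [← hp5]
    rw [← Equiv.Perm.mul_apply ((π (σ fH : 𝔽))⁻¹) (π (σ fH : 𝔽)), inv_mul_cancel, Equiv.Perm.one_apply]
  have hp' : p = π (σ fH : 𝔽) ((π (σ fH : 𝔽))⁻¹ p) := (Equiv.apply_symm_apply _ _).symm
  rcases fixB0 h0 with h | h
  · left
    rw [hp', show (π (σ fH : 𝔽))⁻¹ p = i₀ from Fin.ext h]
    exact σ_fix _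
  · right
    rw [hp', show (π (σ fH : 𝔽))⁻¹ p = ⟨18595, by norm_num⟩ from Fin.ext h]

/-- the point of the first generator of Fi23 -/
def i₁ : Fin 306936 := ⟨1, by norm_num⟩

theorem tp_a : (cls24 facts).tp i₁ = gen (.a : Fi24.Gen) := gen_tp facts .a

theorem fix_one_of_comm {q : 𝕊} (h : q * Fi23.gen .a = Fi23.gen .a * q) :
    π (σ q : 𝔽) i₁ = i₁ := by
  refine ((cls24 facts).commute_tp_iff _ _).1 ?_
  rw [tp_a]
  have hc : Commute (σ q : 𝔽) (gen .a * gen .l) := by
    rw [show (gen .a * gen .l : 𝔽) = (σ (Fi23.gen .a) : 𝔽) from (σ_gen .a).symm]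
    have := congrArg (fun t => ((σ t : G) : 𝔽)) h
    simp only [map_mul, Subgroup.coe_mul] at this
    exact this
  have := hc.mul_right (σ_comm_l q)
  rwa [mul_assoc, gen_sq, mul_one] at this

/-- the element exchanging the base point and the point of the first generator -/
noncomputable def sA : 𝔽 := toA

theorem sA_sq : sA * sA = 1 := by
  have hla : gen (.l : Fi24.Gen) * gen .a = gen .a * gen .l := comm24 (by decide)
  calc sA * sA = gen .k * (gen .a * gen .l) * (gen .k * gen .k) * (gen .a * gen .l) * gen .k := by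
        simp only [sA, toA, mul_assoc]
    _ = gen .k * ((gen .a * gen .l) * (gen .l * gen .a)) * gen .k := by
        rw [gen_sq, mul_one, hla]
        simp only [mul_assoc]
    _ = 1 := by
        rw [mul_assoc (gen .a), ← mul_assoc (gen .l), gen_sq, one_mul, gen_sq, mul_one, gen_sq]

theorem sA_inv : sA⁻¹ = sA := inv_eq_of_mul_eq_one_left sA_sq

theorem sA_l : sA * gen .l * sA = gen .a := by
  conv_lhs => arg 2; rw [← sA_inv]
  exact conj_toA

theorem sA_a : sA * gen .a * sA = gen .l := by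
  rw [← sA_l, show sA * (sA * gen .l * sA) * sA = (sA * sA) * gen .l * (sA * sA) by
    simp only [mul_assoc], sA_sq, one_mul, mul_one]

theorem π_sA_i₀ : π sA i₀ = i₁ := Fin.ext π_toA

theorem π_sA_i₁ : π sA i₁ = i₀ := by
  rw [← π_sA_i₀, ← Equiv.Perm.mul_apply, ← map_mul, sA_sq, map_one, Equiv.Perm.one_apply]

theorem sA_gen : ∀ x : Fi23.Gen, 2 ≤ Fi23.idx x → sA * gen (up x) * sA = gen (up x) := by
  intro x hx
  have hc : ∀ y ∈ ([.k, .a, .l] : List Fi24.Gen), gen (up x) * gen y = gen y * gen (up x) := by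
    intro y hy
    refine comm24 ?_
    revert hx hy
    cases x <;> cases y <;> decide
  have h : Commute (gen (up x)) sA :=
    Commute.mul_right (Commute.mul_right (hc _ (by simp)) (hc _ (by simp)))
      (Commute.mul_right (hc _ (by simp)) (hc _ (by simp)))
  rw [← h.eq, mul_assoc, sA_sq, mul_one]

theorem σ_dq {c : List ℕ} (hc : ∀ k ∈ c, k < 10) (i : Fin 306936)
    (hi : sys.ptW (walk c) 1 = (i : ℕ)) :
    (σ (wEl c * Fi23.gen .a * (wEl c)⁻¹) : 𝔽) = (cls24 facts).tp i * gen .l := by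
  have hp : π (σ (wEl c) : 𝔽) i₁ = i := Fin.ext ((π_σ_wEl c hc i₁).trans hi)
  rw [map_mul, map_mul, map_inv, Subgroup.coe_mul, Subgroup.coe_mul, Subgroup.coe_inv, σ_gen,
    show gen (up .a) = gen (.a : Fi24.Gen) from rfl, ← hp,
    show π (σ (wEl c) : 𝔽) i₁ = (cls24 facts).π (σ (wEl c) : 𝔽) i₁ from rfl,
    ← (cls24 facts).conj_tp, tp_a]
  calc (σ (wEl c) : 𝔽) * (gen .a * gen .l) * (σ (wEl c) : 𝔽)⁻¹
      = (σ (wEl c) : 𝔽) * gen .a * (gen .l * (σ (wEl c) : 𝔽)⁻¹) := by simp only [mul_assoc]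
    _ = (σ (wEl c) : 𝔽) * gen .a * ((σ (wEl c) : 𝔽)⁻¹ * gen .l) := by
      rw [((show Commute (σ (wEl c) : 𝔽) (gen .l) from σ_comm_l _).inv_left).eq]
    _ = _ := by simp only [mul_assoc]

theorem ptX_ok : Nat.beq (sys.ptW (walk CX) 1) 26188 = true := by decide +kernel

theorem ptY_ok : Nat.beq (sys.ptW (walk CY) 1) 23772 = true := by decide +kernel

theorem ptS_ok : Nat.beq (sys.ptW [1, 0, 2, 1] 26188) 23772 = true := by decide +kernel

theorem ptXY : sys.ptW [1, 0, 2, 1] (sys.ptW (walk CX) 1) = sys.ptW (walk CY) 1 ∧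
    sys.ptW (walk CX) 1 < 306936 ∧ sys.ptW (walk CY) 1 < 306936 := by
  rw [Nat.eq_of_beq_eq_true ptX_ok, Nat.eq_of_beq_eq_true ptY_ok]
  exact ⟨Nat.eq_of_beq_eq_true ptS_ok, by norm_num, by norm_num⟩

theorem sA_X : sA * (σ (xLet okE.2.1 11) : 𝔽) * sA =
    (σ (xLet okE.2.2.1 11 * Fi23.gen .a) : 𝔽) := by
  obtain ⟨e, hX, hY⟩ := ptXY
  rw [xLet, xLet, if_neg (by omega), if_neg (by omega), ← dq_X, ← dq_Y]
  generalize hu : wEl CY * Fi23.gen .a * (wEl CY)⁻¹ = U
  have hU : (σ U : 𝔽) = (cls24 facts).tp ⟨_, hY⟩ * gen .l :=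
    hu ▸ σ_dq words_ok.2.2.2.1 ⟨_, hY⟩ rfl
  rw [σ_dq words_ok.2.2.1 ⟨_, hX⟩ rfl, map_mul, Subgroup.coe_mul, hU, σ_gen,
    show gen (up .a) = gen (.a : Fi24.Gen) from rfl]
  have hmap : π sA ⟨_, hX⟩ = ⟨_, hY⟩ := by
    refine Fin.ext ?_
    rw [sA, toA, show (gen .k * gen .a * (gen .l * gen .k) : 𝔽) =
        (([.k, .a, .l, .k] : List Fi24.Gen).map gen).prod by simp [mul_assoc], π_word]
    exact e
  rw [show sA * ((cls24 facts).tp ⟨_, hX⟩ * gen .l) * sA =
      (sA * (cls24 facts).tp ⟨_, hX⟩ * sA⁻¹) * (sA * gen .l * sA) by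
        simp only [mul_assoc, inv_mul_cancel_left],
    (cls24 facts).conj_tp, sA_l, show (cls24 facts).π sA _ = _ from hmap, mul_assoc,
    show gen .l * (gen .a * gen .l) = gen (.a : Fi24.Gen) by
      rw [← mul_assoc, comm24 (x := .l) (y := .a) (by decide), mul_assoc, gen_sq, mul_one]]

theorem sA_xEl : ∀ w : List ℕ, (∀ k ∈ w, k ≠ 1 ∧ (k < 10 ∨ k = 11)) →
    sA * (σ (xEl okE.2.1 w) : 𝔽) * sA =
      (σ (xEl okE.2.2.1 (w.filter fun l => !(Nat.beq l 0)) * Fi23.gen .a ^ w.length) : 𝔽) ∧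
    Commute (Fi23.gen .a) (xEl okE.2.2.1 (w.filter fun l => !(Nat.beq l 0)))
  | [], _ => by simp [xEl, sA_sq]
  | k :: w, h => by
    obtain ⟨ih, ihc⟩ := sA_xEl w fun j hj => h j (List.mem_cons_of_mem _ hj)
    obtain ⟨h1, hk⟩ := h k (List.mem_cons_self ..)
    have hsplit : sA * (σ (xEl okE.2.1 (k :: w)) : 𝔽) * sA =
        (sA * (σ (xEl okE.2.1 w) : 𝔽) * sA) * (sA * (σ (xLet okE.2.1 k) : 𝔽) * sA) := by
      rw [xEl, map_mul, Subgroup.coe_mul]
      simp only [mul_assoc]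
      rw [← mul_assoc sA sA, sA_sq, one_mul]
    by_cases h0 : k = 0
    · subst h0
      have hf : ((0 :: w).filter fun l => !(Nat.beq l 0)) = w.filter fun l => !(Nat.beq l 0) := by
        simp
      rw [hf]
      refine ⟨?_, ihc⟩
      rw [hsplit, ih, List.length_cons, pow_succ,
        ← mul_assoc (xEl okE.2.2.1 (w.filter fun l => !(Nat.beq l 0))), map_mul σ _ (Fi23.gen .a),
        Subgroup.coe_mul]
      congr 1
      rw [xLet, if_pos (by omega), show Fi23.Auto.ofIdx 0 = .a from rfl, σ_gen,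
        show gen (up .a) = gen (.a : Fi24.Gen) from rfl,
        show sA * (gen .a * gen .l) * sA = (sA * gen .a * sA) * (sA * gen .l * sA) by
          simp only [mul_assoc]; rw [← mul_assoc sA sA, sA_sq, one_mul],
        sA_a, sA_l]
      exact comm24 (by decide)
    · have hf : ((k :: w).filter fun l => !(Nat.beq l 0)) = k :: w.filter fun l => !(Nat.beq l 0) :=
        List.filter_cons_of_pos (by rw [Bool.not_eq_true']; exact Bool.eq_false_iff.2 fun e => h0 (Nat.eq_of_beq_eq_true e))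
      have key : sA * (σ (xLet okE.2.1 k) : 𝔽) * sA = (σ (xLet okE.2.2.1 k * Fi23.gen .a) : 𝔽) ∧
          Commute (Fi23.gen .a) (xLet okE.2.2.1 k) := by
        rcases hk with hk | rfl
        · have h2 : 2 ≤ Fi23.idx (Fi23.Auto.ofIdx k) := by
            rw [Fi23.Auto.idx_ofIdx k hk]; omega
          constructor
          · simp only [xLet, if_pos hk]
            rw [map_mul, Subgroup.coe_mul, σ_gen, σ_gen,
              show gen (up .a) = gen (.a : Fi24.Gen) from rfl,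
              show sA * (gen (up (Fi23.Auto.ofIdx k)) * gen .l) * sA =
                (sA * gen (up (Fi23.Auto.ofIdx k)) * sA) * (sA * gen .l * sA) by
                  simp only [mul_assoc]; rw [← mul_assoc sA sA, sA_sq, one_mul],
              sA_gen _ h2, sA_l, mul_assoc,
              show gen .l * (gen .a * gen .l) = gen (.a : Fi24.Gen) by
                rw [← mul_assoc, comm24 (x := .l) (y := .a) (by decide), mul_assoc, gen_sq, mul_one]]
          · simp only [xLet, if_pos hk]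
            have hlab : coxLabel Fi23.edges .a (Fi23.Auto.ofIdx k) = 2 := by
              have : ∀ x : Fi23.Gen, 2 ≤ Fi23.idx x → coxLabel Fi23.edges .a x = 2 := by
                intro x; cases x <;> decide
              exact this _ h2
            have := pgen_cox (extra := Fi23.extra) (Fi23.mem_nodes .a) (Fi23.mem_nodes (Fi23.Auto.ofIdx k))
            rw [hlab, pow_two] at this
            have e := eq_inv_of_mul_eq_one_left this
            rw [mul_inv_rev, inv_eq_of_mul_eq_one_left (Fi23.gen_sq _),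
              inv_eq_of_mul_eq_one_left (Fi23.gen_sq _)] at e
            exact e
        · exact ⟨sA_X, by simp only [xLet, if_neg (by omega : ¬ (11 : ℕ) < 10)]; exact comm_Y⟩
      rw [hf]
      refine ⟨?_, ihc.mul_right key.2⟩
      rw [hsplit, ih, key.1, ← Subgroup.coe_mul, ← map_mul, xEl]
      congr 2
      rw [List.length_cons, pow_succ, mul_assoc, ← mul_assoc (Fi23.gen .a ^ w.length),
        (key.2.pow_left w.length).eq]
      simp only [mul_assoc]

theorem xEl_snoc {c : ℕ} (hc : okPath c = true) : ∀ u : List ℕ,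
    xEl hc (u ++ [0]) = Fi23.gen .a * xEl hc u
  | [] => by simp [xEl, xLet, show Fi23.Auto.ofIdx 0 = Fi23.Gen.a from rfl]
  | k :: u => by rw [List.cons_append, xEl, xEl_snoc hc u, xEl, mul_assoc]

theorem xEl_comm_a : ∀ w : List ℕ, (∀ k ∈ w, k ≠ 1 ∧ (k < 10 ∨ k = 11)) →
    Commute (sA * (σ (xEl okE.2.1 w) : 𝔽) * sA) (gen .l) := fun w h => by
  rw [(sA_xEl w h).1]
  exact σ_comm_l _

/-- the conjugate of `eB` commutes with the first generator -/
theorem conjB_fix : π (σ (fW⁻¹ * fB * fW) : 𝔽) i₁ = i₁ := by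
  refine fix_one_of_comm (mul_inv_eq_iff_eq_mul.1 ?_)
  rw [← Fi23.Auto.dq_gpt .a, Fi23.Auto.conj_dq, map_mul, map_mul, Equiv.Perm.mul_apply,
    Equiv.Perm.mul_apply, fW_pt, fB_ptE, map_inv, Equiv.Perm.inv_eq_iff_eq.2 fW_pt.symm]

theorem fixB {p : Fin 306936} (h : π (eB : 𝔽) p = p) : p = i₀ ∨ p = π (σ fW : 𝔽) i₁ := by
  obtain ⟨P, hP⟩ := fixB_two
  have hq : π (eB : 𝔽) (π (σ fW : 𝔽) i₁) = π (σ fW : 𝔽) i₁ := by
    have e := conjB_fix
    rw [map_mul, map_mul, map_inv, Subgroup.coe_mul, Subgroup.coe_mul, Subgroup.coe_inv, map_mul,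
      map_mul, map_inv, Equiv.Perm.mul_apply, Equiv.Perm.mul_apply, Equiv.Perm.inv_eq_iff_eq] at e
    exact e
  rcases hP _ hq with e | e
  · exfalso
    have : π (σ fW : 𝔽) i₁ = π (σ fW : 𝔽) i₀ := e.trans (σ_fix fW).symm
    exact absurd (congrArg Fin.val ((π (σ fW : 𝔽)).injective this)) Nat.one_ne_zero
  · exact (hP p h).imp_right fun h' => h'.trans e.symm

theorem cent_eA {g : G} (hg : g * eA = eA * g) : ∃ t : ℕ, g = eA ^ t := by
  have hfix : π (g : 𝔽) i₀ = i₀ := by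
    refine fixA ?_
    have e := congrArg (fun x : G => π (x : 𝔽) i₀) hg
    simp only [Subgroup.coe_mul, map_mul, Equiv.Perm.mul_apply, eA, σ_fix] at e
    exact e.symm
  obtain ⟨q, rfl⟩ := eq_σ_of_fix hfix
  obtain ⟨t, ht⟩ := cent_fA (g := q) (σ_injective (by rw [map_mul, map_mul]; exact hg))
  exact ⟨t, by rw [ht, map_pow]; rfl⟩

theorem cent_eB {g : G} (hg : g * eB = eB * g) :
    ∃ i : ℕ, i < 16 ∧ (g = eB ^ i ∨ g = eE * eB ^ i) := by
  have hfix : π (g : 𝔽) i₀ = i₀ := by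
    have hq : π (eB : 𝔽) (π (g : 𝔽) i₀) = π (g : 𝔽) i₀ := by
      have e := congrArg (fun x : G => π (x : 𝔽) i₀) hg
      simp only [Subgroup.coe_mul, map_mul, Equiv.Perm.mul_apply, eB, σ_fix] at e
      exact e.symm
    rcases fixB hq with e | e
    · exact e
    exfalso
    let g₁ : 𝔽 := (σ fW : 𝔽)⁻¹ * g * σ fW
    have h1 : π g₁ i₀ = i₁ := by
      simp only [g₁, map_mul, map_inv, Equiv.Perm.mul_apply, σ_fix, e]
      exact (π (σ fW : 𝔽)).symm_apply_apply _
    have hh : π (sA⁻¹ * g₁) i₀ = i₀ := by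
      rw [sA_inv, map_mul, Equiv.Perm.mul_apply, h1, π_sA_i₁]
    let h : H := ⟨sA⁻¹ * g₁, mem_H_of_fix facts hh⟩
    have hcomm : g₁ * (σ (xEl okE.2.1 BPW) : 𝔽) * g₁⁻¹ = (σ (xEl okE.2.1 BPW) : 𝔽) := by
      rw [fB_conjW, map_mul, map_mul, map_inv, Subgroup.coe_mul, Subgroup.coe_mul, Subgroup.coe_inv]
      have hg' : (g : 𝔽) * (σ fB : 𝔽) = (σ fB : 𝔽) * g := by
        simpa [eB] using congrArg Subtype.val hg
      simp only [g₁]
      calc (σ fW : 𝔽)⁻¹ * g * σ fW * ((σ fW : 𝔽)⁻¹ * σ fB * σ fW) * ((σ fW : 𝔽)⁻¹ * g * σ fW)⁻¹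
          = (σ fW : 𝔽)⁻¹ * ((g : 𝔽) * σ fB) * (g : 𝔽)⁻¹ * σ fW := by group
        _ = _ := by rw [hg']; group
    obtain ⟨hs, hc⟩ := sA_xEl BPW words_ok.2.2.2.2
    have hconj : (h : 𝔽) * (σ (xEl okE.2.1 BPW) : 𝔽) * (h : 𝔽)⁻¹ =
        (σ (xEl okE.2.2.1 ((BPW.filter fun l => !(Nat.beq l 0)) ++ [0])) : 𝔽) := by
      have hlen : Fi23.gen .a ^ BPW.length = Fi23.gen .a := by
        rw [show BPW.length = 2 * 27 + 1 from rfl, pow_succ, pow_mul, pow_two, Fi23.gen_sq, one_pow,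
          one_mul]
      rw [xEl_snoc, hc.eq, ← hlen, ← hs]
      show sA⁻¹ * g₁ * _ * (sA⁻¹ * g₁)⁻¹ = _
      calc sA⁻¹ * g₁ * (σ (xEl okE.2.1 BPW) : 𝔽) * (sA⁻¹ * g₁)⁻¹
          = sA⁻¹ * (g₁ * (σ (xEl okE.2.1 BPW) : 𝔽) * g₁⁻¹) * sA := by group
        _ = _ := by rw [hcomm, sA_inv]
    refine not_conjugate (ρ h) ?_
    have e' : h * ⟨(σ (xEl okE.2.1 BPW) : 𝔽), σ_mem_H _⟩ * h⁻¹ =
        ⟨(σ (xEl okE.2.2.1 ((BPW.filter fun l => !(Nat.beq l 0)) ++ [0])) : 𝔽), σ_mem_H _⟩ :=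
      Subtype.ext hconj
    have := congrArg ρ e'
    rwa [map_mul, map_mul, map_inv, ρ_σ, ρ_σ] at this
  obtain ⟨q, rfl⟩ := eq_σ_of_fix hfix
  obtain ⟨i, hi, hq | hq⟩ := cent_fB (g := q) (σ_injective (by rw [map_mul, map_mul]; exact hg))
  · exact ⟨i, hi, Or.inl (by rw [hq, map_pow]; rfl)⟩
  · exact ⟨i, hi, Or.inr (by rw [hq, map_mul, map_pow]; rfl)⟩

end CfsgLib.Spor.Fi24Out
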