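import Cfsg.Agent.Lib.Spor.Fi24.Sys
import Cfsg.Agent.Lib.BitPerm.Action

/-!
Points fixed by words in the action of Fi24: tests on whole planes of bits.
-/

set_option autoImplicit false

namespace CfsgLib.Spor.Fi24Out

open CfsgLib.BitPerm CfsgLib.Spor.Fi24

/-- all points -/
noncomputable def pointsMask : Nat := Nat.sub (Nat.shiftLeft 1 306936) 1

/-- the points moved by a word as seen in the given planes, joined to given points -/
noncomputable def movedOr (w : List Nat) (M : Nat) : List Nat → Nat
  | [] => M
  | j :: js => force (movedOr w M js) fun A => force (plane j 19) fun P =>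
      force (Nat.xor (sys.actW w P) P) fun D => Nat.lor A D

/-- the test for a word -/
noncomputable def movedIs (w : List Nat) (M : Nat) (js : List Nat) (R : Nat) : Bool :=
  Nat.beq (Nat.land (movedOr w M js) pointsMask) R

/-- the points separated by some letter from the action of the third letter in the given planes -/
noncomputable def sepOr (xs : List Nat) : List Nat → Nat
  | [] => 0
  | j :: js => force (sepOr xs js) fun A => force (plane j 19) fun P => force (sys.act 3 P) fun B =>
      xs.foldl (fun C x => force (Nat.xor (sys.act x P) B) fun D => Nat.lor C D) A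

/-- the word of the element of order seventeen -/
def aWord : List Nat := [10, 7, 3, 4, 6, 5, 7, 6, 3, 7, 9, 2, 10, 11, 3, 10, 3, 4, 8, 2, 5, 2]

/-- the word of the short element of order sixteen -/
def bWord : List Nat := [6, 10, 11, 6, 4, 5, 3, 9, 10, 5, 8, 6, 4, 3, 2, 9, 5, 10, 6, 4, 11, 7, 5, 4, 8, 3, 11, 4, 3, 4, 6, 0]

/-- the letters compared with the third -/
def kLetters : List Nat := [4, 5, 6, 7, 8, 9, 10, 11]

end CfsgLib.Spor.Fi24Out
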