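import Cfsg.Agent.Lib.Spor.Fi24Out.Elems
import Cfsg.Agent.Lib.Spor.Fi24Out.Abstract

/-!
The outer automorphism group of the derived group of Fi24 has order two.
-/

set_option autoImplicit false

namespace CfsgLib.Spor.Fi24Out

open CfsgLib.PresCert Cfsg.Spor CfsgLib.Spor.FischerTypes CfsgLib.Spor.Fi23Norm
open CfsgLib.Spor.Fi24 (π π_gen π_word idx gen gen_sq H hGens sys i₀)

local notation "𝔽" => Cfsg.Spor.Fi24

attribute [local irreducible] sys

/-- the element outside the stabiliser -/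
noncomputable def eG : G := ⟨gen .k * gen .l, gen_l_mem .k⟩

/-- the products centralised by it -/
def pairs : Set G := {s | ∃ x : Fi23.Gen, 2 ≤ Fi23.idx x ∧ s = σ (Fi23.gen x * Fi23.gen .b)}

theorem σ_pair (x : Fi23.Gen) :
    (σ (Fi23.gen x * Fi23.gen .b) : 𝔽) = gen (up x) * gen .b := by
  rw [map_mul, Subgroup.coe_mul, σ_gen, σ_gen, show gen (up .b) = gen (.b : Fi24.Gen) from rfl,
    mul_assoc, ← mul_assoc (gen .l), ← comm_l (x := .b) (by decide), mul_assoc, gen_sq, mul_one]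

theorem eG_pairs : ∀ s ∈ pairs, eG * s = s * eG := by
  rintro _ ⟨x, hx, rfl⟩
  refine Subtype.ext ?_
  rw [Subgroup.coe_mul, Subgroup.coe_mul, σ_pair]
  have hc : ∀ y ∈ ([.k, .l] : List Fi24.Gen), ∀ z ∈ ([up x, .b] : List Fi24.Gen),
      gen y * gen z = gen z * gen y := by
    intro y hy z hz
    refine comm24 ?_
    revert hx hy hz
    cases x <;> cases y <;> cases z <;> decide
  exact ((Commute.mul_right (hc .k (by simp) _ (by simp)) (hc .k (by simp) .b (by simp))).mul_left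
    (Commute.mul_right (hc .l (by simp) _ (by simp)) (hc .l (by simp) .b (by simp)))).eq

theorem pt_k : sys.pt 1 0 = 31672 ∧ sys.pt 1 31672 = 0 ∧ sys.pt 0 0 = 0 ∧ sys.pt 0 31672 = 31673 := by
  decide +kernel

theorem π_eG : ((π (eG : 𝔽) i₀ : Fin _) : ℕ) = 31672 := by
  show ((π (gen .k * gen .l : 𝔽) i₀ : Fin _) : ℕ) = _
  rw [map_mul, Equiv.Perm.mul_apply, π_gen, π_gen, show ((i₀ : Fin 306936) : ℕ) = 0 from rfl]
  show sys.pt 1 (sys.pt 0 0) = _
  rw [pt_k.2.2.1, pt_k.1]

theorem π_eG_inv : ((π (eG⁻¹ : G) i₀ : Fin _) : ℕ) = 31673 := by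
  show ((π ((gen .k * gen .l : 𝔽)⁻¹) i₀ : Fin _) : ℕ) = _
  rw [mul_inv_rev, inv_eq_of_mul_eq_one_left (gen_sq (.k : Fi24.Gen)), l_sq_inv, map_mul,
    Equiv.Perm.mul_apply, π_gen, π_gen, show ((i₀ : Fin 306936) : ℕ) = 0 from rfl]
  show sys.pt 0 (sys.pt 1 0) = _
  rw [pt_k.1, pt_k.2.2.2]

theorem cent_pairs {x : G} (hx : ∀ s ∈ pairs, x * s = s * x) : x = 1 ∨ x = eG ∨ x = eG⁻¹ := by
  have base : ∀ y : G, (∀ s ∈ pairs, y * s = s * y) → π (y : 𝔽) i₀ = i₀ → y = 1 := by
    intro y hy hfix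
    obtain ⟨q, rfl⟩ := eq_σ_of_fix hfix
    rw [eq_one_of_comm_pairs (s := q) fun z hz => σ_injective (by
      rw [map_mul σ q, map_mul σ _ q]; exact hy _ ⟨z, hz, rfl⟩), map_one]
  have h3 : ((π (x : 𝔽) i₀ : Fin _) : ℕ) = 0 ∨ ((π (x : 𝔽) i₀ : Fin _) : ℕ) = 31672 ∨
      ((π (x : 𝔽) i₀ : Fin _) : ℕ) = 31673 := by
    refine kFix (π (x : 𝔽) i₀).2 fun k hk => ?_
    obtain ⟨z, hz, rfl⟩ : ∃ z : Fi23.Gen, 2 ≤ Fi23.idx z ∧ idx (up z) = k := by
      have : ∀ k ∈ kLetters, ∃ z ∈ Fi23.allGens, 2 ≤ Fi23.idx z ∧ idx (up z) = k := by decide +kernel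
      obtain ⟨z, -, h⟩ := this k hk
      exact ⟨z, h⟩
    have e := congrArg (fun g : G => π (g : 𝔽) i₀) (hx _ ⟨z, hz, rfl⟩)
    simp only [Subgroup.coe_mul, map_mul, Equiv.Perm.mul_apply, σ_fix] at e
    have e2 : π (gen (up z) * gen .b : 𝔽) (π (x : 𝔽) i₀) = π (x : 𝔽) i₀ := by
      rw [← σ_pair, map_mul, Subgroup.coe_mul, map_mul, Equiv.Perm.mul_apply]
      exact e.symm
    have e3 := congrArg (fun p => π (gen (up z) : 𝔽) p) e2
    rw [map_mul, Equiv.Perm.mul_apply] at e3
    simp only [← Equiv.Perm.mul_apply (π (gen (up z) : 𝔽)) (π (gen (up z) : 𝔽)), ← map_mul, gen_sq,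
      map_one, Equiv.Perm.one_apply] at e3
    have e4 := congrArg Fin.val e3
    rw [π_gen, π_gen] at e4
    exact e4.symm
  have other : ∀ u : G, (∀ s ∈ pairs, u * s = s * u) → π (x : 𝔽) i₀ = π (u : 𝔽) i₀ → x = u := by
    intro u hu e
    refine (inv_mul_eq_one.1 (base (u⁻¹ * x) (fun s hs => ?_) ?_)).symm
    · rw [mul_assoc, hx s hs, ← mul_assoc, ← mul_assoc, (show Commute u s from hu s hs).inv_left.eq]
    · rw [Subgroup.coe_mul, Subgroup.coe_inv, map_mul, map_inv, Equiv.Perm.mul_apply,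
        Equiv.Perm.inv_eq_iff_eq]
      exact e
  rcases h3 with h | h | h
  · exact Or.inl (base x hx (Fin.ext h))
  · exact Or.inr (Or.inl (other _ eG_pairs (Fin.ext (h.trans π_eG.symm))))
  · refine Or.inr (Or.inr (other _ (fun s hs => ?_) (Fin.ext (h.trans π_eG_inv.symm))))
    exact ((show Commute eG s from eG_pairs s hs).inv_left).eq

theorem σ_range : ∀ q, σ q ∈ Subgroup.closure ({eA, eB, eE} : Set G) := by
  intro q
  have : (Subgroup.closure ({fA, fB, fE} : Set Cfsg.Spor.Fi23)).map σ =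
      Subgroup.closure ({eA, eB, eE} : Set G) := by
    rw [MonoidHom.map_closure, Set.image_insert_eq, Set.image_insert_eq, Set.image_singleton]
    rfl
  rw [← this, closure_fABE]
  exact ⟨q, Subgroup.mem_top q, rfl⟩

theorem gen_top : Subgroup.closure ({eA, eB, eE, eG} : Set G) = ⊤ := by
  set K : Subgroup G := Subgroup.closure ({eA, eB, eE, eG} : Set G) with hK
  set L : Subgroup 𝔽 := K.map G.subtype with hL
  have hσ : ∀ q, (σ q : 𝔽) ∈ L := fun q => ⟨σ q, Subgroup.closure_mono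
    (by intro t ht; rcases ht with rfl | rfl | rfl <;> simp) (σ_range q), rfl⟩
  have hg : (eG : 𝔽) ∈ L := ⟨eG, Subgroup.subset_closure (by simp), rfl⟩
  have hLG : ∀ t ∈ L, t ∈ G := by rintro _ ⟨t, -, rfl⟩; exact t.2
  have norm_l : ∀ t ∈ L, gen .l * t * gen .l ∈ L := by
    rintro _ ⟨t, ht, rfl⟩
    induction ht using Subgroup.closure_induction with
    | mem u hu =>
      have hs : ∀ q, gen .l * (σ q : 𝔽) * gen .l ∈ L := fun q => by
        rw [← σ_comm_l, mul_assoc, gen_sq, mul_one]; exact hσ q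
      rcases hu with rfl | rfl | rfl | rfl
      · exact hs _
      · exact hs _
      · exact hs _
      · show gen .l * (gen .k * gen .l) * gen .l ∈ L
        have e := L.inv_mem hg
        rw [show (eG : 𝔽) = gen .k * gen .l from rfl, mul_inv_rev, l_sq_inv,
          inv_eq_of_mul_eq_one_left (gen_sq (.k : Fi24.Gen))] at e
        rwa [mul_assoc, mul_assoc, gen_sq, mul_one]
    | one =>
      rw [map_one, mul_one, gen_sq]
      exact L.one_mem
    | mul a b _ _ ha hb =>
      have := L.mul_mem ha hb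
      rwa [show gen .l * G.subtype a * gen .l * (gen .l * G.subtype b * gen .l) =
          gen .l * (G.subtype a * (gen .l * gen .l) * G.subtype b) * gen .l by simp only [mul_assoc],
        gen_sq, mul_one, ← map_mul] at this
    | inv a _ ha =>
      have := L.inv_mem ha
      rwa [mul_inv_rev, mul_inv_rev, l_sq_inv, ← mul_assoc, ← map_inv] at this
  have hgen : ∀ y : Fi24.Gen, gen y * gen .l ∈ L := by
    intro y
    by_cases hy : y = .k
    · subst hy; exact hg
    by_cases hl : y = .l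
    · subst hl; rw [gen_sq]; exact L.one_mem
    have : ∃ z : Fi23.Gen, up z = y := by
      revert hy hl
      cases y <;> intro hy hl
      all_goals first
        | exact absurd rfl hy
        | exact absurd rfl hl
        | exact ⟨.a, rfl⟩ | exact ⟨.b, rfl⟩ | exact ⟨.c, rfl⟩ | exact ⟨.d, rfl⟩ | exact ⟨.e, rfl⟩
        | exact ⟨.f, rfl⟩ | exact ⟨.g, rfl⟩ | exact ⟨.j, rfl⟩ | exact ⟨.h, rfl⟩ | exact ⟨.i, rfl⟩
    obtain ⟨z, rfl⟩ := this
    rw [← σ_gen]
    exact hσ _
  have all : ∀ x : 𝔽, x ∈ L ∨ x * gen .l ∈ L := by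
    intro x
    have hx : x ∈ Subgroup.closure (Set.range (gen : Fi24.Gen → 𝔽)) :=
      (PresentedGroup.closure_range_of _).symm ▸ Subgroup.mem_top x
    induction hx using Subgroup.closure_induction with
    | mem y hy => obtain ⟨z, rfl⟩ := hy; exact Or.inr (hgen z)
    | one => exact Or.inl L.one_mem
    | mul a b _ _ ha hb =>
      rcases ha with ha | ha <;> rcases hb with hb | hb
      · exact Or.inl (L.mul_mem ha hb)
      · exact Or.inr (by rw [mul_assoc]; exact L.mul_mem ha hb)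
      · refine Or.inr ?_
        have := L.mul_mem ha (norm_l _ hb)
        rwa [show a * gen .l * (gen .l * b * gen .l) = a * (gen .l * gen .l) * b * gen .l by
          simp only [mul_assoc], gen_sq, mul_one] at this
      · refine Or.inl ?_
        have := L.mul_mem ha (norm_l _ hb)
        rwa [show a * gen .l * (gen .l * (b * gen .l) * gen .l) =
            a * (gen .l * gen .l) * b * (gen .l * gen .l) by simp only [mul_assoc], gen_sq, mul_one,
          mul_one] at this
    | inv a _ ha =>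
      rcases ha with ha | ha
      · exact Or.inl (L.inv_mem ha)
      · refine Or.inr ?_
        have := norm_l _ (L.inv_mem ha)
        rwa [mul_inv_rev, l_sq_inv, ← mul_assoc, gen_sq, one_mul] at this
  rw [eq_top_iff]
  intro x _
  rcases all (x : 𝔽) with h | h
  · obtain ⟨y, hy, e⟩ := h
    rwa [← Subtype.ext (show (y : 𝔽) = x from e)]
  · exact absurd (by simpa using G.mul_mem (G.inv_mem x.2) (hLG _ h)) l_not_mem

theorem hyp : Hyp eA eB eE eG pairs where
  gen := gen_top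
  sq := by rw [card_G]; norm_num
  ha := (orderOf_injective σ σ_injective fA).trans orderOf_fA
  hba := by rw [eA, eB, ← map_inv, ← map_mul, ← map_mul, fB_conj, map_pow]
  hCa x hx := cent_eA hx
  hb := (orderOf_injective σ σ_injective fB).trans orderOf_fB
  he := by rw [eE, ← map_mul, fE_sq, map_one]
  heb := by rw [eE, eB, ← map_mul, ← map_mul, fE_comm]
  hCb x hx := cent_eB hx
  hne i hi e := fE_ne i hi (σ_injective (e.trans (map_pow σ fB i).symm))
  rele := by rw [eA, eE, ← map_mul, ← map_pow, fAE_pow, map_one]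
  refe e := fAEB_pow (σ_injective (by
    rw [map_pow, map_mul, map_mul, map_pow, map_one]; exact e))
  hS := by rintro _ ⟨x, -, rfl⟩; exact σ_range _
  hg e := by
    have := π_eG
    rw [e, OneMemClass.coe_one, map_one, Equiv.Perm.one_apply] at this
    exact absurd this (by decide)
  hSg := eG_pairs
  hCS _ hx := cent_pairs hx

/-- conjugation by the reflection outside the derived group -/
noncomputable def τ : MulAut G := MulAut.conjNormal (gen .l)

theorem τ_apply (g : G) : ((τ g : G) : 𝔽) = gen .l * g * gen .l := by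
  rw [τ, MulAut.conjNormal_apply, l_sq_inv]

theorem τ_σ (q : Cfsg.Spor.Fi23) : τ (σ q) = σ q :=
  Subtype.ext (by rw [τ_apply, ← σ_comm_l, mul_assoc, gen_sq, mul_one])

theorem τ_eG : τ eG = eG⁻¹ := by
  refine Subtype.ext ?_
  rw [τ_apply, Subgroup.coe_inv]
  show gen .l * (gen .k * gen .l) * gen .l = (gen .k * gen .l : 𝔽)⁻¹
  rw [mul_inv_rev, l_sq_inv, inv_eq_of_mul_eq_one_left (gen_sq (.k : Fi24.Gen)), mul_assoc,
    mul_assoc, gen_sq, mul_one]

theorem τ_not_inner : τ ∉ Cfsg.Inn G := by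
  rintro ⟨x, hx⟩
  have hq : ∀ q, x * σ q = σ q * x := fun q => by
    have e := DFunLike.congr_fun hx (σ q)
    rw [τ_σ, MulAut.conj_apply, mul_inv_eq_iff_eq_mul] at e
    exact e
  obtain ⟨t, ht⟩ := cent_eA (hq fA)
  obtain ⟨q, hxq⟩ : ∃ q, x = σ q := ⟨fA ^ t, by rw [ht, map_pow]; rfl⟩
  subst hxq
  have hone : q = 1 := Fi23.Auto.eq_one_of_comm fun y => by
    refine Fi23.Auto.dq_injective ?_
    rw [← Fi23.Auto.conj_dq, Fi23.Auto.dq_gpt, mul_inv_eq_iff_eq_mul]
    exact σ_injective (by rw [map_mul, map_mul]; exact hq _)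
  subst hone
  have e := DFunLike.congr_fun hx eG
  rw [map_one, map_one, τ_eG, MulAut.one_apply] at e
  have := congrArg (fun g : G => ((π (g : 𝔽) i₀ : Fin _) : ℕ)) e
  rw [π_eG, π_eG_inv] at this
  exact absurd this (by decide)

theorem natCard_out : Nat.card (Cfsg.Out Cfsg.Spor.Fi24') = 2 :=
  hyp.natCard_out τ (τ_σ _) (τ_σ _) (τ_σ _) τ_eG τ_not_inner

end CfsgLib.Spor.Fi24Out
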