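import Cfsg.Agent.Lib.KnownA.MathieuOut.Abstract

/-!
Every outer class has a representative fixing an element `b` which acts fixed-point-freely on a
self-centralising subgroup of prime order, and moving that subgroup only through given powers.
-/

set_option autoImplicit false

namespace CfsgLib.Spor.Fi24Out

open Cfsg

variable {G : Type*} [Group G] [Finite G]

theorem exists_rep {p : ℕ} [hp : Fact p.Prime] (hp2 : ¬ p ^ 2 ∣ Nat.card G) {a b : G}
    (ha : orderOf a = p) {s : ℕ} (hb : b * a * b⁻¹ = a ^ s)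
    (hs1 : ((s : ZMod p) - 1) ≠ 0) (R : List ℕ)
    (hs : ∀ j < p, j ≠ 0 → ∃ i < p, ∃ r ∈ R, j * s ^ i % p = r % p)
    (hC : ∀ g : G, g * a = a * g → ∃ t : ℕ, g = a ^ t) :
    ∀ o : Out G, ∃ φ : MulAut G, QuotientGroup.mk φ = o ∧ φ b = b ∧ ∃ r ∈ R, φ a = a ^ r := by
  have hapow : ∀ m : ℕ, a ^ (m % p) = a ^ m := fun m => by rw [← ha, pow_mod_orderOf]
  have hsp : ¬ p ∣ s := fun hd => by
    have hz : a ^ s = 1 := orderOf_dvd_iff_pow_eq_one.1 (ha ▸ hd)
    rw [hz] at hb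
    rw [conj_eq_one_iff.1 hb, orderOf_one] at ha
    exact hp.out.one_lt.ne ha
  intro o
  obtain ⟨φ, rfl⟩ := QuotientGroup.mk_surjective o
  have hmk : ∀ (g : G) (ψ : MulAut G),
      (QuotientGroup.mk (MulAut.conj g * ψ) : Out G) = QuotientGroup.mk ψ := by
    intro g ψ
    rw [QuotientGroup.mk_mul]
    have : (QuotientGroup.mk (MulAut.conj g) : Out G) = 1 :=
      (QuotientGroup.eq_one_iff _).2 ⟨g, rfl⟩
    rw [this, one_mul]
  obtain ⟨g, j, hjp, hj0, hgj⟩ := MathieuOut.exists_conj_eq_pow hp2 ha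
    (x := φ a) ((orderOf_injective φ.toMonoidHom φ.injective a).trans ha)
  obtain ⟨i, -, r, hr, hi⟩ := hs j hjp hj0
  set ψ : MulAut G := MulAut.conj (b ^ i * g) * φ with hψ
  have hψa : ψ a = a ^ r := by
    have h2 : ψ a = b ^ i * (g * φ a * g⁻¹) * (b ^ i)⁻¹ := by
      simp only [hψ, MulAut.mul_apply, MulAut.conj_apply, mul_inv_rev, mul_assoc]
    rw [h2, hgj, ← conj_pow, MathieuOut.conj_pow_eq hb, ← pow_mul, mul_comm (s ^ i) j,
      ← hapow, hi, hapow]
  have hrp : ¬ p ∣ r := fun hd => by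
    have : ψ a = 1 := by rw [hψa]; exact orderOf_dvd_iff_pow_eq_one.1 (ha ▸ hd)
    rw [map_eq_one_iff _ ψ.injective] at this
    rw [this, orderOf_one] at ha
    exact hp.out.one_lt.ne ha
  -- the image of `b` differs from `b` by a power of `a`
  have hcomm : ψ b * b⁻¹ * a = a * (ψ b * b⁻¹) := by
    have h1 : ψ b * ψ a * (ψ b)⁻¹ = ψ a ^ s := by
      rw [← map_inv, ← map_mul, ← map_mul, hb, map_pow]
    rw [hψa, ← pow_mul] at h1
    have h3 : b * a ^ r * b⁻¹ = a ^ (r * s) := by rw [← conj_pow, hb, ← pow_mul, mul_comm]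
    have h4 : ψ b * b⁻¹ * (a ^ (r * s)) * (ψ b * b⁻¹)⁻¹ = a ^ (r * s) := by
      calc ψ b * b⁻¹ * (a ^ (r * s)) * (ψ b * b⁻¹)⁻¹
          = ψ b * (b⁻¹ * (a ^ (r * s)) * b) * (ψ b)⁻¹ := by group
        _ = ψ b * a ^ r * (ψ b)⁻¹ := by rw [← h3]; group
        _ = a ^ (r * s) := h1
    have h5 : Commute (ψ b * b⁻¹) (a ^ (r * s)) := mul_inv_eq_iff_eq_mul.1 h4
    have hcop : Nat.Coprime (r * s) (orderOf a) := by
      rw [ha]
      exact ((hp.out.coprime_iff_not_dvd).2 fun hd => (hp.out.dvd_mul.1 hd).elim hrp hsp).symm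
    obtain ⟨m, hm⟩ := exists_pow_eq_self_of_coprime hcop
    have := h5.pow_right m
    rw [hm] at this
    exact this
  obtain ⟨t, ht⟩ := hC _ hcomm
  set u : ℕ := ((t : ZMod p) * ((s : ZMod p) - 1)⁻¹).val with hu
  have hψb : (MulAut.conj (a ^ u) * ψ) b = b := by
    have h1 : ψ b = a ^ t * b := by rw [← ht, inv_mul_cancel_right]
    have h2 : b * a ^ u = a ^ (s * u) * b := by
      have h3 : b * a ^ u * b⁻¹ = a ^ (s * u) := by rw [← conj_pow, hb, ← pow_mul]
      rw [← h3, inv_mul_cancel_right]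
    have h4 : a ^ (u + t) = a ^ (s * u) := by
      rw [pow_eq_pow_iff_modEq, ha, ← ZMod.natCast_eq_natCast_iff]
      simp only [Nat.cast_add, Nat.cast_mul, hu, ZMod.natCast_val, ZMod.cast_id', id_eq]
      field_simp
      ring
    calc (MulAut.conj (a ^ u) * ψ) b = a ^ (u + t) * b * (a ^ u)⁻¹ := by
          rw [MulAut.mul_apply, MulAut.conj_apply, h1, pow_add]; group
      _ = b := by rw [h4, ← h2, mul_inv_cancel_right]
  refine ⟨MulAut.conj (a ^ u) * ψ, by rw [hmk, hψ, hmk], hψb, r, hr, ?_⟩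
  have hau : Commute (a ^ u) (a ^ r) := ((Commute.refl a).pow_left u).pow_right r
  rw [MulAut.mul_apply, hψa, MulAut.conj_apply, hau.eq, mul_inv_cancel_right]

end CfsgLib.Spor.Fi24Out
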